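-- Team project LSF (S5286, coordinator helper67): package [TREE] (helper41).
-- A finite group acting on the Cayley tree of a free group by isometries of the word metric,
-- without edge inversions, fixes a vertex.
import Mathlib

set_option autoImplicit false

namespace Cfsg.Agent.Lib.Helper41.LSF

universe u v

section tree

variable {X : Type u}

/-- The length-parity homomorphism of a free group. -/
noncomputable def parHom (X : Type u) : FreeGroup X →* Multiplicative (ZMod 2) :=
  FreeGroup.lift (fun _ => Multiplicative.ofAdd (1 : ZMod 2))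

theorem parHom_mk (L : List (X × Bool)) :
    parHom X (FreeGroup.mk L) = Multiplicative.ofAdd ((L.length : ℕ) : ZMod 2) := by
  unfold parHom
  rw [FreeGroup.lift_mk]
  induction L with
  | nil => simp
  | cons a L ih =>
    rw [List.map_cons, List.prod_cons, ih]
    rcases a with ⟨x, b⟩
    cases b
    · simp only [cond_false, List.length_cons, Nat.cast_add, Nat.cast_one]
      rw [← ofAdd_neg, ← ofAdd_add]
      congr 1
      have h : (-1 : ZMod 2) = 1 := by decide
      rw [h]; ring
    · simp only [cond_true, List.length_cons, Nat.cast_add, Nat.cast_one]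
      rw [← ofAdd_add]
      congr 1
      ring

variable [DecidableEq X]

/-- The word length is additive modulo 2. -/
theorem norm_mul_parity (a b : FreeGroup X) :
    (a * b).norm % 2 = (a.norm + b.norm) % 2 := by
  have h1 : ∀ g : FreeGroup X, parHom X g = Multiplicative.ofAdd ((g.norm : ℕ) : ZMod 2) := by
    intro g
    conv_lhs => rw [← FreeGroup.mk_toWord (x := g)]
    rw [parHom_mk]; rfl
  have h2 := map_mul (parHom X) a b
  rw [h1, h1, h1, ← ofAdd_add] at h2
  have h3 : (((a * b).norm : ℕ) : ZMod 2) = ((a.norm + b.norm : ℕ) : ZMod 2) := by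
    have h4 := Multiplicative.ofAdd.injective h2
    rw [h4]; push_cast; rfl
  exact (ZMod.natCast_eq_natCast_iff' _ _ 2).mp h3

/-- The first vertex `s` on the geodesic from `1` to `g` (`|g| ≥ 2`) is strictly closer to every
vertex `o` than the farther of `1` and `g`. -/
theorem midpoint (g : FreeGroup X) (hg : 2 ≤ g.norm) :
    ∃ s : FreeGroup X, s.norm = 1 ∧ (s⁻¹ * g).norm + 1 = g.norm ∧
      ∀ o : FreeGroup X, (s⁻¹ * o).norm < max o.norm (g⁻¹ * o).norm := by
  obtain ⟨p, L, hpL⟩ : ∃ p L, g.toWord = p :: L := by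
    cases h : g.toWord with
    | nil => simp [FreeGroup.norm, h] at hg
    | cons p L => exact ⟨p, L, rfl⟩
  set s : FreeGroup X := FreeGroup.mk [p] with hs
  have key : ∀ (o : FreeGroup X) (L' : List (X × Bool)), o.toWord = p :: L' →
      (s⁻¹ * o).norm + 1 = o.norm := by
    intro o L' hoL
    have hored : FreeGroup.IsReduced (p :: L') := hoL ▸ FreeGroup.isReduced_toWord
    have hL'red : FreeGroup.IsReduced L' := hored.infix ⟨[p], [], by simp⟩
    have h1 : s * FreeGroup.mk L' = o := by
      rw [hs, FreeGroup.mul_mk]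
      simp only [List.singleton_append]
      rw [← hoL, FreeGroup.mk_toWord]
    have h2 : s⁻¹ * o = FreeGroup.mk L' := by rw [← h1]; group
    rw [h2, FreeGroup.norm, FreeGroup.toWord_mk, hL'red.reduce_eq, FreeGroup.norm, hoL]
    simp
  have hsnorm : s.norm = 1 := by
    rw [hs, FreeGroup.norm, FreeGroup.toWord_mk, FreeGroup.reduce_singleton]; rfl
  refine ⟨s, hsnorm, key g L hpL, ?_⟩
  intro o
  by_cases ho : ∃ L', o.toWord = p :: L'
  · obtain ⟨L', hoL⟩ := ho
    have h1 := key o L' hoL
    have h2 : (s⁻¹ * o).norm < o.norm := by omega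
    exact lt_max_of_lt_left h2
  · have hred : FreeGroup.IsReduced (g⁻¹.toWord ++ o.toWord) := by
      refine List.IsChain.append FreeGroup.isReduced_toWord FreeGroup.isReduced_toWord ?_
      intro x hx y hy
      rw [FreeGroup.toWord_inv, hpL] at hx
      have hx' : x = (p.1, !p.2) := by
        simp [FreeGroup.invRev] at hx
        exact hx.symm
      subst hx'
      intro h1
      have hyp : y ≠ p := by
        rintro rfl
        apply ho
        cases hw : o.toWord with
        | nil => simp [hw] at hy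
        | cons z L' =>
          rw [hw] at hy
          simp at hy
          exact ⟨L', by rw [hy]⟩
      simp only at h1 ⊢
      by_contra h2
      apply hyp
      ext
      · exact h1.symm
      · cases hb : y.2 <;> cases hc : p.2 <;> simp_all
    have hnorm : (g⁻¹ * o).norm = g.norm + o.norm := by
      rw [FreeGroup.norm, FreeGroup.toWord_mul, hred.reduce_eq, List.length_append]
      simp [FreeGroup.norm]
    have h3 : (s⁻¹ * o).norm ≤ 1 + o.norm := by
      calc (s⁻¹ * o).norm ≤ (s⁻¹).norm + o.norm := FreeGroup.norm_mul_le _ _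
        _ = 1 + o.norm := by rw [FreeGroup.norm_inv_eq, hsnorm]
    apply lt_max_of_lt_right
    omega

/-- **[TREE]** A finite group acting on the vertices of the Cayley tree of `FreeGroup X` by
isometries of the word metric `d(u, v) = |u⁻¹ v|` and without edge inversions fixes a vertex. -/
theorem tree_fixed_point {A : Type v} [Group A] [Finite A] [MulAction A (FreeGroup X)]
    (hiso : ∀ (a : A) (u v : FreeGroup X), ((a • u)⁻¹ * (a • v)).norm = (u⁻¹ * v).norm)
    (hninv : ∀ (a : A) (u v : FreeGroup X), (u⁻¹ * v).norm = 1 → a • u = v → a • v ≠ u) :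
    ∃ v : FreeGroup X, ∀ a : A, a • v = v := by
  classical
  have : Fintype A := Fintype.ofFinite A
  let r : FreeGroup X → ℕ :=
    fun v => Finset.univ.sup (fun a : A => (v⁻¹ * (a • (1 : FreeGroup X))).norm)
  have hr_le : ∀ (b : A) (v : FreeGroup X), r (b • v) ≤ r v := by
    intro b v
    apply Finset.sup_le
    intro a _
    have h1 : a • (1 : FreeGroup X) = b • ((b⁻¹ * a) • (1 : FreeGroup X)) := by
      rw [← mul_smul]; simp
    rw [h1, hiso]
    exact Finset.le_sup (f := fun a : A => (v⁻¹ * (a • (1 : FreeGroup X))).norm)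
      (Finset.mem_univ (b⁻¹ * a))
  have hr_inv : ∀ (b : A) (v : FreeGroup X), r (b • v) = r v := by
    intro b v
    apply le_antisymm (hr_le b v)
    have h := hr_le b⁻¹ (b • v)
    rwa [inv_smul_smul] at h
  have hex : ∃ n, ∃ v, r v = n := ⟨r 1, 1, rfl⟩
  obtain ⟨v₀, hv₀⟩ := Nat.find_spec hex
  have hmin : ∀ w, r v₀ ≤ r w := fun w => by
    rw [hv₀]; exact Nat.find_min' hex ⟨w, rfl⟩
  have hclose : ∀ v v' : FreeGroup X, r v = r v₀ → r v' = r v₀ → (v⁻¹ * v').norm ≤ 1 := by
    intro v v' hv hv'
    by_contra hcon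
    rw [not_le] at hcon
    obtain ⟨s, hs1, hs2, hs3⟩ := midpoint (v⁻¹ * v') (by omega)
    have hlt : ∀ a : A, ((v * s)⁻¹ * (a • (1 : FreeGroup X))).norm < r v₀ := by
      intro a
      have h1 := hs3 (v⁻¹ * (a • (1 : FreeGroup X)))
      have h2 : (v * s)⁻¹ * (a • (1 : FreeGroup X)) = s⁻¹ * (v⁻¹ * (a • (1 : FreeGroup X))) := by
        group
      have h3 : (v⁻¹ * v')⁻¹ * (v⁻¹ * (a • (1 : FreeGroup X))) = v'⁻¹ * (a • (1 : FreeGroup X)) := by
        group
      rw [h3] at h1
      rw [h2]
      refine lt_of_lt_of_le h1 (max_le ?_ ?_)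
      · rw [← hv]
        exact Finset.le_sup (f := fun a : A => (v⁻¹ * (a • (1 : FreeGroup X))).norm)
          (Finset.mem_univ a)
      · rw [← hv']
        exact Finset.le_sup (f := fun a : A => (v'⁻¹ * (a • (1 : FreeGroup X))).norm)
          (Finset.mem_univ a)
    have hpos : 0 < r v₀ := lt_of_le_of_lt (Nat.zero_le _) (hlt 1)
    have hrm : r (v * s) < r v₀ := by
      rw [Finset.sup_lt_iff (by simpa using hpos)]
      intro a _
      exact hlt a
    exact absurd (hmin (v * s)) (not_le.mpr hrm)
  by_contra hne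
  rw [not_exists] at hne
  obtain ⟨a, ha⟩ := not_forall.mp (hne v₀)
  have h1 : (v₀⁻¹ * (a • v₀)).norm = 1 := by
    have h2 := hclose v₀ (a • v₀) rfl (hr_inv a v₀)
    have h3 : (v₀⁻¹ * (a • v₀)).norm ≠ 0 := by
      rw [Ne, FreeGroup.norm_eq_zero]
      intro h4
      apply ha
      have h5 : a • v₀ = v₀ * (v₀⁻¹ * (a • v₀)) := by group
      rw [h5, h4, mul_one]
    omega
  have h5 : a • (a • v₀) ≠ v₀ := hninv a v₀ (a • v₀) h1 rfl
  have h6 : ((a • v₀)⁻¹ * (a • (a • v₀))).norm = 1 := by rw [hiso]; exact h1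
  have h7 : (v₀⁻¹ * (a • (a • v₀))).norm = 1 := by
    have h2 := hclose v₀ (a • (a • v₀)) rfl (by rw [hr_inv, hr_inv])
    have h3 : (v₀⁻¹ * (a • (a • v₀))).norm ≠ 0 := by
      rw [Ne, FreeGroup.norm_eq_zero]
      intro h4
      apply h5
      have h8 : a • (a • v₀) = v₀ * (v₀⁻¹ * (a • (a • v₀))) := by group
      rw [h8, h4, mul_one]
    omega
  have h8 := norm_mul_parity (v₀⁻¹ * (a • v₀)) ((a • v₀)⁻¹ * (a • (a • v₀)))
  have h9 : (v₀⁻¹ * (a • v₀)) * ((a • v₀)⁻¹ * (a • (a • v₀))) = v₀⁻¹ * (a • (a • v₀)) := by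
    group
  rw [h9, h7, h1, h6] at h8
  omega

end tree

end Cfsg.Agent.Lib.Helper41.LSF
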