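-- Team project LSF (S5286, coordinator helper67): [TREE] for affine actions (helper41).
-- A finite family of maps `v ↦ c a * FreeGroup.map (σ a) v` (`σ a` injective on the basis)
-- that compose like a group has a common fixed point.
import Cfsg.Agent.Lib.Helper41.LSF.Tree

set_option autoImplicit false

namespace Cfsg.Agent.Lib.Helper41.LSF

universe u v

section aff

variable {X : Type u} [DecidableEq X]

/-- A basis map that is injective preserves the word length. -/
theorem norm_map_of_injective {Y : Type v} [DecidableEq Y] (σ : X → Y)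
    (hσ : Function.Injective σ) (w : FreeGroup X) : (FreeGroup.map σ w).norm = w.norm := by
  have hred : FreeGroup.IsReduced (w.toWord.map fun x => (σ x.1, x.2)) := by
    have h0 : FreeGroup.IsReduced w.toWord := FreeGroup.isReduced_toWord
    unfold FreeGroup.IsReduced at h0 ⊢
    rw [List.isChain_map]
    refine h0.imp ?_
    intro a b hab h1
    exact hab (hσ h1)
  conv_lhs => rw [← FreeGroup.mk_toWord (x := w)]
  rw [FreeGroup.map.mk, FreeGroup.norm, FreeGroup.toWord_mk, hred.reduce_eq, List.length_map]
  rfl

/-- A basis map never inverts an element of length one. -/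
theorem map_ne_inv_of_norm_one (σ : X → X) (s : FreeGroup X) (hs : s.norm = 1) :
    FreeGroup.map σ s ≠ s⁻¹ := by
  obtain ⟨p, hp⟩ : ∃ p, s.toWord = [p] := by
    rw [FreeGroup.norm] at hs
    exact List.length_eq_one_iff.mp hs
  have hs' : s = FreeGroup.mk [p] := by rw [← hp, FreeGroup.mk_toWord]
  intro h
  rw [hs', FreeGroup.map.mk, FreeGroup.inv_mk] at h
  have h2 := congrArg FreeGroup.toWord h
  rw [FreeGroup.toWord_mk, FreeGroup.toWord_mk] at h2
  simp [FreeGroup.invRev] at h2

/-- **[TREE], affine form.** Let `A` be a finite group and `a ↦ (v ↦ c a * map (σ a) v)` an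
action of `A` on `FreeGroup X` (each `σ a` an injective map of the basis).  Then the action has a
fixed point. -/
theorem fixed_of_affine {A : Type v} [Group A] [Finite A] (c : A → FreeGroup X)
    (σ : A → X → X) (hσ : ∀ a, Function.Injective (σ a))
    (hone : ∀ v : FreeGroup X, c 1 * FreeGroup.map (σ 1) v = v)
    (hmul : ∀ (a b : A) (v : FreeGroup X), c (a * b) * FreeGroup.map (σ (a * b)) v =
      c a * FreeGroup.map (σ a) (c b * FreeGroup.map (σ b) v)) :
    ∃ v : FreeGroup X, ∀ a : A, c a * FreeGroup.map (σ a) v = v := by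
  letI : MulAction A (FreeGroup X) :=
    { smul := fun a v => c a * FreeGroup.map (σ a) v
      one_smul := hone
      mul_smul := hmul }
  have hsmul : ∀ (a : A) (v : FreeGroup X), a • v = c a * FreeGroup.map (σ a) v := fun _ _ => rfl
  have hiso : ∀ (a : A) (u v : FreeGroup X),
      ((a • u)⁻¹ * (a • v)).norm = (u⁻¹ * v).norm := by
    intro a u v
    rw [hsmul, hsmul]
    have h1 : (c a * FreeGroup.map (σ a) u)⁻¹ * (c a * FreeGroup.map (σ a) v) =
        FreeGroup.map (σ a) (u⁻¹ * v) := by
      rw [map_mul, map_inv]; group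
    rw [h1, norm_map_of_injective (σ a) (hσ a)]
  have hninv : ∀ (a : A) (u v : FreeGroup X), (u⁻¹ * v).norm = 1 → a • u = v → a • v ≠ u := by
    intro a u v h1 h2 h3
    rw [hsmul] at h2 h3
    apply map_ne_inv_of_norm_one (σ a) (u⁻¹ * v) h1
    have h4 : FreeGroup.map (σ a) u = (c a)⁻¹ * v := by rw [← h2]; group
    have h5 : FreeGroup.map (σ a) v = (c a)⁻¹ * u := by rw [← h3]; group
    rw [map_mul, map_inv, h4, h5]
    group
  obtain ⟨v, hv⟩ := tree_fixed_point (A := A) hiso hninv
  exact ⟨v, fun a => by rw [← hsmul]; exact hv a⟩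

end aff

end Cfsg.Agent.Lib.Helper41.LSF
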